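import Mathlib
import Groth.Agent.S6485
import Groth.Agent.S13785

/-!
# Units of the coordinate ring of GL_n
-/

universe u


namespace Groth.Agent.GLUnitsB

section

variable {A : Type u} [CommRing A]

/-- Over a reduced ring without nontrivial idempotents a divisor of a power of `X` is a unit times a power of `X`. -/
theorem eq_C_mul_X_pow [IsReduced A] [Nontrivial A] (hconn : ∀ e : A, IsIdempotentElem e → e = 0 ∨ e = 1)
    {f g : Polynomial A} {N : ℕ} (h : f * g = Polynomial.X ^ N) :
    ∃ d : ℕ, IsUnit (f.coeff d) ∧ f = Polynomial.C (f.coeff d) * Polynomial.X ^ d := by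
  have h1 : ∀ i k, i ≠ k → f.coeff i * f.coeff k = 0 := fun i k hik => by
    refine IsNilpotent.eq_zero (nilpotent_iff_mem_prime.mpr fun P hP => ?_)
    have hh := congrArg (Polynomial.map (Ideal.Quotient.mk P)) h
    rw [Polynomial.map_mul, Polynomial.map_pow, Polynomial.map_X] at hh
    obtain ⟨j, -, hj⟩ := (dvd_prime_pow Polynomial.prime_X N).mp ⟨_, hh.symm⟩
    obtain ⟨c, hc⟩ := hj.symm
    obtain ⟨c', -, hc'⟩ := Polynomial.isUnit_iff.mp c.isUnit
    have hcoef : ∀ r, r ≠ j → f.coeff r ∈ P := fun r hr => by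
      rw [← Ideal.Quotient.eq_zero_iff_mem, ← Polynomial.coeff_map, ← hc, ← hc', mul_comm,
        Polynomial.coeff_C_mul_X_pow, if_neg hr]
    by_cases hi : i = j
    · exact P.mul_mem_left _ (hcoef k fun hk => hik (hi.trans hk.symm))
    · exact P.mul_mem_right _ (hcoef i hi)
  have hsum : ∑ x ∈ (Finset.HasAntidiagonal.antidiagonal N), f.coeff x.1 * g.coeff x.2 = 1 := by
    rw [← Polynomial.coeff_mul, h, Polynomial.coeff_X_pow_self]
  have horth : ∀ x y : ℕ × ℕ, x ∈ (Finset.HasAntidiagonal.antidiagonal N) → y ∈ (Finset.HasAntidiagonal.antidiagonal N) → x ≠ y →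
      (f.coeff x.1 * g.coeff x.2) * (f.coeff y.1 * g.coeff y.2) = 0 := fun x y hx hy hxy => by
    have hne : x.1 ≠ y.1 := fun he => hxy (Prod.ext he (by
      have := Finset.HasAntidiagonal.mem_antidiagonal.mp hx
      have := Finset.HasAntidiagonal.mem_antidiagonal.mp hy
      omega))
    rw [mul_mul_mul_comm, h1 _ _ hne, zero_mul]
  have hex : ∃ x ∈ (Finset.HasAntidiagonal.antidiagonal N), f.coeff x.1 * g.coeff x.2 = 1 := by
    by_contra hno
    push Not at hno
    have : ∑ x ∈ (Finset.HasAntidiagonal.antidiagonal N), f.coeff x.1 * g.coeff x.2 = 0 := by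
      refine Finset.sum_eq_zero fun x hx => ?_
      have hid : IsIdempotentElem (f.coeff x.1 * g.coeff x.2) := by
        have h2 := congrArg (fun s => (f.coeff x.1 * g.coeff x.2) * s) hsum
        simp only [mul_one] at h2
        rw [Finset.mul_sum, Finset.sum_eq_single x (fun y hy hyx => horth x y hx hy (Ne.symm hyx))
          (fun hh => absurd hx hh)] at h2
        exact h2
      exact (hconn _ hid).resolve_right (hno x hx)
    exact zero_ne_one (this ▸ hsum)
  obtain ⟨⟨d, d'⟩, -, hd⟩ := hex
  have hu : IsUnit (f.coeff d) := IsUnit.of_mul_eq_one _ hd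
  refine ⟨d, hu, Polynomial.ext fun r => ?_⟩
  rw [Polynomial.coeff_C_mul_X_pow]
  split_ifs with hr
  · rw [hr]
  · exact hu.mul_left_eq_zero.mp (h1 r d hr)

variable (A) in
/-- The generic determinant. -/
noncomputable abbrev genDet (n : ℕ) : MvPolynomial (Fin n × Fin n) A :=
  (Matrix.mvPolynomialX (Fin n) (Fin n) A).det

/-- Evaluation at a scalar matrix `X • 1`. -/
noncomputable def scalarEval (A : Type u) [CommRing A] (n : ℕ) : MvPolynomial (Fin n × Fin n) A →ₐ[A] Polynomial A :=
  MvPolynomial.aeval fun ij => if ij.1 = ij.2 then Polynomial.X else 0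

theorem aeval_genDet {B : Type*} [CommRing B] [Algebra A B] {n : ℕ} (c : Fin n → B) :
    MvPolynomial.aeval (fun ij : Fin n × Fin n => if ij.1 = ij.2 then c ij.1 else 0) (genDet A n) = ∏ i, c i := by
  rw [AlgHom.map_det, ← Matrix.det_diagonal]
  congr 1
  ext i j
  simp [Matrix.diagonal_apply]

theorem scalarEval_genDet (n : ℕ) : scalarEval A n (genDet A n) = Polynomial.X ^ n :=
  (aeval_genDet (fun _ => (Polynomial.X : Polynomial A))).trans (by simp)

theorem scalarEval_map {B : Type u} [CommRing B] (φ : A →+* B) {n : ℕ} (p : MvPolynomial (Fin n × Fin n) A) :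
    scalarEval B n (MvPolynomial.map φ p) = (scalarEval A n p).map φ := by
  have : (scalarEval B n).toRingHom.comp (MvPolynomial.map φ) =
      (Polynomial.mapRingHom φ).comp (scalarEval A n).toRingHom := by
    refine MvPolynomial.ringHom_ext (fun a => by simp [scalarEval]) (fun ij => ?_)
    by_cases h : ij.1 = ij.2 <;> simp [scalarEval, h]
  exact DFunLike.congr_fun this p

theorem map_genDet {B : Type u} [CommRing B] (φ : A →+* B) (n : ℕ) :
    MvPolynomial.map φ (genDet A n) = genDet B n := by
  rw [RingHom.map_det]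
  congr 1
  ext i j
  simp

/-- Over a reduced connected ring a divisor of a power of the generic determinant is a unit times a power of it. -/
theorem eq_C_mul_genDet_pow [IsReduced A] [Nontrivial A] (hconn : ∀ e : A, IsIdempotentElem e → e = 0 ∨ e = 1)
    {n : ℕ} (hn : 0 < n) {p q : MvPolynomial (Fin n × Fin n) A} {m : ℕ} (h : p * q = genDet A n ^ m) :
    ∃ (a : Aˣ) (j : ℕ), p = MvPolynomial.C (a : A) * genDet A n ^ j := by
  have hs : scalarEval A n p * scalarEval A n q = Polynomial.X ^ (n * m) := by
    rw [← map_mul, h, map_pow, scalarEval_genDet, pow_mul]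
  obtain ⟨d, hu, hd⟩ := eq_C_mul_X_pow hconn hs
  refine ⟨hu.unit, d / n, MvPolynomial.ext _ _ fun r => ?_⟩
  rw [← sub_eq_zero]
  refine IsNilpotent.eq_zero (nilpotent_iff_mem_prime.mpr fun P hP => ?_)
  let φ : A →+* FractionRing (A ⧸ P) := (algebraMap (A ⧸ P) _).comp (Ideal.Quotient.mk P)
  have hker : ∀ x, φ x = 0 → x ∈ P := fun x hx => by
    rw [← Ideal.Quotient.eq_zero_iff_mem]
    exact IsFractionRing.injective (A ⧸ P) (FractionRing (A ⧸ P)) (by rw [map_zero]; exact hx)
  apply hker
  have hprime : Prime (genDet (FractionRing (A ⧸ P)) n) :=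
    (Groth.Agent.S6485.result (FractionRing (A ⧸ P)) n hn).prime
  have hh := congrArg (MvPolynomial.map φ) h
  rw [map_mul, map_pow, map_genDet] at hh
  obtain ⟨j, -, hj⟩ := (dvd_prime_pow hprime m).mp ⟨_, hh.symm⟩
  obtain ⟨c, hc⟩ := hj.symm
  have hc' : (c : MvPolynomial (Fin n × Fin n) (FractionRing (A ⧸ P))) =
      MvPolynomial.C ((c : MvPolynomial (Fin n × Fin n) (FractionRing (A ⧸ P))).coeff 0) :=
    MvPolynomial.totalDegree_eq_zero_iff_eq_C.mp (MvPolynomial.isUnit_iff_totalDegree_of_isReduced.mp c.isUnit).2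
  set c0 := (c : MvPolynomial (Fin n × Fin n) (FractionRing (A ⧸ P))).coeff 0
  have hcalg : scalarEval (FractionRing (A ⧸ P)) n (MvPolynomial.C c0) = Polynomial.C c0 := by
    simp [scalarEval]
  have h3 := congrArg (scalarEval (FractionRing (A ⧸ P)) n) hc
  rw [map_mul, map_pow, scalarEval_genDet, scalarEval_map, hd, Polynomial.map_mul, Polynomial.map_C,
    Polynomial.map_pow, Polynomial.map_X, hc', hcalg, ← pow_mul, mul_comm] at h3
  have hne : φ ((scalarEval A n p).coeff d) ≠ 0 := (hu.map φ).ne_zero
  have h4 := congrArg (fun z => Polynomial.coeff z d) h3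
  simp only [Polynomial.coeff_C_mul_X_pow, ↓reduceIte] at h4
  have hjd : d = n * j := by
    by_contra hne'
    rw [if_neg hne'] at h4
    exact hne h4.symm
  rw [if_pos hjd] at h4
  have hdiv : d / n = j := by rw [hjd, Nat.mul_div_cancel_left j hn]
  have h5 : MvPolynomial.map φ (MvPolynomial.C ((hu.unit : Aˣ) : A) * genDet A n ^ (d / n)) =
      MvPolynomial.map φ p := by
    rw [map_mul, map_pow, map_genDet, MvPolynomial.map_C, hdiv, ← hc, hc', h4, mul_comm]
    simp
  have h6 := congrArg (MvPolynomial.coeff r) h5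
  rw [MvPolynomial.coeff_map, MvPolynomial.coeff_map] at h6
  rw [map_sub, h6, sub_self]

theorem zpow_eq_T {L : (LaurentPolynomial A)ˣ} (hL : (L : LaurentPolynomial A) = LaurentPolynomial.T 1) (e : ℤ) :
    ((L ^ e : (LaurentPolynomial A)ˣ) : LaurentPolynomial A) = LaurentPolynomial.T e := by
  induction e using Int.induction_on with
  | zero => simp
  | succ i hi => rw [zpow_add_one, Units.val_mul, hi, hL, ← LaurentPolynomial.T_add]
  | pred i hi =>
    have hinv : ((L⁻¹ : (LaurentPolynomial A)ˣ) : LaurentPolynomial A) = LaurentPolynomial.T (-1) := by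
      refine Units.inv_eq_of_mul_eq_one_right ?_
      rw [hL, ← LaurentPolynomial.T_add, add_neg_cancel, LaurentPolynomial.T_zero]
    rw [zpow_sub_one, Units.val_mul, hi, hinv, ← LaurentPolynomial.T_add, sub_eq_add_neg]

/-- Evaluation of the localised ring at `diag(T,1,…,1)`. -/
theorem exists_laurent_eval {n : ℕ} (hn : 0 < n) :
    ∃ χ : Localization.Away (genDet A n) →+* LaurentPolynomial A,
      (∀ a, χ (algebraMap A _ a) = LaurentPolynomial.C a) ∧
      χ (algebraMap (MvPolynomial (Fin n × Fin n) A) _ (genDet A n)) = LaurentPolynomial.T 1 ∧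
      χ (algebraMap (MvPolynomial (Fin n × Fin n) A) _ (MvPolynomial.X (⟨0, hn⟩, ⟨0, hn⟩))) = LaurentPolynomial.T 1 := by
  let c : Fin n → LaurentPolynomial A := fun i => if i = ⟨0, hn⟩ then LaurentPolynomial.T 1 else 1
  let ev : MvPolynomial (Fin n × Fin n) A →ₐ[A] LaurentPolynomial A :=
    MvPolynomial.aeval fun ij => if ij.1 = ij.2 then c ij.1 else 0
  have hdet : ev (genDet A n) = LaurentPolynomial.T 1 :=
    (aeval_genDet c).trans (by rw [Finset.prod_ite_eq' Finset.univ (⟨0, hn⟩ : Fin n)]; simp)
  have hu : IsUnit (ev.toRingHom (genDet A n)) := by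
    change IsUnit (ev (genDet A n))
    rw [hdet]
    exact LaurentPolynomial.isUnit_T 1
  refine ⟨IsLocalization.Away.lift (genDet A n) hu, fun a => ?_, ?_, ?_⟩
  · rw [IsScalarTower.algebraMap_apply A (MvPolynomial (Fin n × Fin n) A), IsLocalization.Away.lift_eq]
    simp [ev]
  · rw [IsLocalization.Away.lift_eq]; exact hdet
  · rw [IsLocalization.Away.lift_eq]; simp [ev, c]

theorem bijective_iff [Nontrivial A] (hconn : ∀ e : A, IsIdempotentElem e → e = 0 ∨ e = 1) (n : ℕ) (hn : 0 < n) :
    Function.Bijective (fun p : Aˣ × ℤ =>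
        Units.map (algebraMap A (Localization.Away (genDet A n))).toMonoidHom p.1 *
          (IsLocalization.Away.algebraMap_isUnit (S := Localization.Away (genDet A n))
            (genDet A n)).unit ^ p.2) ↔ IsReduced A := by
  classical
  set U := (IsLocalization.Away.algebraMap_isUnit (S := Localization.Away (genDet A n)) (genDet A n)).unit with hU
  obtain ⟨χ, hχa, hχd, hχx⟩ := exists_laurent_eval (A := A) hn
  have hval : ∀ (a : Aˣ) (e : ℤ),
      χ ((Units.map (algebraMap A (Localization.Away (genDet A n))).toMonoidHom a * U ^ e :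
        (Localization.Away (genDet A n))ˣ) : Localization.Away (genDet A n)) = AddMonoidAlgebra.single e (a : A) := by
    intro a e
    have he : χ ((U ^ e : (Localization.Away (genDet A n))ˣ) : Localization.Away (genDet A n)) = LaurentPolynomial.T e := by
      rw [← zpow_eq_T (L := Units.map χ.toMonoidHom U) hχd e, ← map_zpow]
      rfl
    rw [Units.val_mul, map_mul, he, LaurentPolynomial.single_eq_C_mul_T]
    congr 1
    exact hχa (a : A)
  constructor
  · intro hbij
    refine ⟨fun a ha => ?_⟩
    let x : MvPolynomial (Fin n × Fin n) A := MvPolynomial.X (⟨0, hn⟩, ⟨0, hn⟩)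
    have hu : IsUnit (algebraMap (MvPolynomial (Fin n × Fin n) A) (Localization.Away (genDet A n))
        (1 + MvPolynomial.C a * x)) := by
      have : IsNilpotent (MvPolynomial.C a * x) := Commute.isNilpotent_mul_right (Commute.all _ _) (ha.map MvPolynomial.C)
      exact this.isUnit_one_add.map _
    obtain ⟨⟨b, e⟩, hbe⟩ := hbij.2 hu.unit
    have h1 := congrArg (fun w : (Localization.Away (genDet A n))ˣ => χ (w : Localization.Away (genDet A n))) hbe
    simp only [hval, IsUnit.unit_spec] at h1
    rw [map_add, map_one, map_mul, map_add, map_one, map_mul, hχx] at h1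
    rw [← MvPolynomial.algebraMap_eq, ← IsScalarTower.algebraMap_apply, hχa, ← LaurentPolynomial.single_eq_C_mul_T,
      ← LaurentPolynomial.T_zero] at h1
    have h10 := DFunLike.congr_fun (congrArg AddMonoidAlgebra.coeff h1) 0
    have h11 := DFunLike.congr_fun (congrArg AddMonoidAlgebra.coeff h1) 1
    have hT : (LaurentPolynomial.T 0 : LaurentPolynomial A).coeff = Finsupp.single 0 1 := rfl
    simp only [AddMonoidAlgebra.coeff_add, AddMonoidAlgebra.coeff_single, Finsupp.add_apply, hT] at h10 h11
    rcases eq_or_ne e 0 with rfl | he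
    · simpa [Finsupp.single_apply] using h11.symm
    · simp [Finsupp.single_apply, he] at h10
  · intro hred
    constructor
    · rintro ⟨a, e⟩ ⟨b, f⟩ h
      have h1 := congrArg (fun w : (Localization.Away (genDet A n))ˣ => χ (w : Localization.Away (genDet A n))) h
      simp only [hval] at h1
      rcases AddMonoidAlgebra.single_inj.mp h1 with ⟨he, ha⟩ | ⟨ha, -⟩
      · exact Prod.ext (Units.ext ha) he
      · exact absurd ha a.ne_zero
    · intro w
      obtain ⟨k, p, hp⟩ := IsLocalization.Away.surj (genDet A n) (w : Localization.Away (genDet A n))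
      obtain ⟨l, q, hq⟩ := IsLocalization.Away.surj (genDet A n) ((w⁻¹ : (Localization.Away (genDet A n))ˣ) : Localization.Away (genDet A n))
      have hinj : Function.Injective (algebraMap (MvPolynomial (Fin n × Fin n) A) (Localization.Away (genDet A n))) :=
        IsLocalization.injective _ (Submonoid.powers_le.mpr (Groth.Agent.S13785.result A n))
      have hpq : p * q = genDet A n ^ (k + l) := hinj (by
        rw [map_mul, map_pow, ← hp, ← hq, pow_add, mul_mul_mul_comm, Units.mul_inv, one_mul])
      obtain ⟨a, j, hj⟩ := eq_C_mul_genDet_pow hconn hn hpq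
      refine ⟨(a, (j : ℤ) - k), ?_⟩
      have hUv : (U : Localization.Away (genDet A n)) = algebraMap _ _ (genDet A n) := IsUnit.unit_spec _
      have h2 : w * U ^ k = Units.map (algebraMap A (Localization.Away (genDet A n))).toMonoidHom a * U ^ j := by
        ext
        rw [Units.val_mul, Units.val_pow_eq_pow_val, Units.val_mul, Units.val_pow_eq_pow_val, hUv, hp, hj,
          map_mul, map_pow, ← MvPolynomial.algebraMap_eq, ← IsScalarTower.algebraMap_apply]
        rfl
      show _ * U ^ ((j : ℤ) - (k : ℤ)) = w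
      rw [zpow_sub, ← mul_assoc, zpow_natCast, zpow_natCast, ← h2, mul_inv_cancel_right]

end

end Groth.Agent.GLUnitsB
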